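import Groth.Agent.CurveEmbed.Conic
import Groth.Agent.CurveCohLib.Nonspecial
import Groth.Agent.CurveCohLib.RegularCurve
import Groth.Agent.Lib.CurvePoint
import Groth.Agent.Lib.CurveRR
import Groth.Agent.H23.InvStalk
import Mathlib.AlgebraicGeometry.Morphisms.Smooth

/-! Dropping one section of a nonspecial invertible module at a general point of an integral curve. -/

noncomputable section

set_option linter.style.haveILetI false
set_option linter.unusedSectionVars false
set_option backward.isDefEq.respectTransparency false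
set_option backward.isDefEq.respectTransparency.types false

universe u

open CategoryTheory CategoryTheory.Limits AlgebraicGeometry TopologicalSpace Opposite
open Groth.Agent.PnCoh.Finite (mapLin)

attribute [local instance] Curv2.resAlgebra

namespace Groth.Agent.CurveDrop

open Groth.Agent Groth.Agent.CurveBundle Groth.Agent.CurvePoint Groth.Agent.CurveSlope Groth.Agent.CurveStable

variable (k : Type u) [Field k] [IsAlgClosed k] {X : Scheme.{u}} [X.Over (Spec (CommRingCat.of k))]
  [IsIntegral X] [IsProper (X ↘ Spec (CommRingCat.of k))]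

include k in
theorem deg_point_eq {x : X} (hx : IsClosed ({x} : Set X)) : Curv2.deg k X (ptMod x hx) 1 = -1 := by
  rw [CurveEmbed.deg_point k hx]
  have hb : Function.Bijective (Algebra.linearMap k (X.residueField x)) :=
    ⟨(Curv2.resMap k X x).injective, CurveSection.surjective_resMap k hx⟩
  rw [← (LinearEquiv.ofBijective _ hb).finrank_eq, Module.finrank_self]
  rfl

include k in
/-- A smooth closed point avoiding a closed set without the generic point. -/
theorem exists_point {T : Set X} (hT : IsClosed T) (hg : genericPoint X ∉ T) :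
    ∃ p : X, p ∉ T ∧ IsClosed ({p} : Set X) ∧ p ∈ (X ↘ Spec (CommRingCat.of k)).smoothLocus := by
  haveI : JacobsonSpace X := LocallyOfFiniteType.jacobsonSpace (X ↘ Spec (CommRingCat.of k))
  haveI := CurveCohLib.isNoetherian_of_proper (k := k) (X := X)
  haveI : LocallyOfFinitePresentation (X ↘ Spec (CommRingCat.of k)) := inferInstance
  have hs := Scheme.Hom.genericPoint_mem_smoothLocus_of_perfectField (X ↘ Spec (CommRingCat.of k))
  obtain ⟨p, ⟨hpT, hps⟩, hpc⟩ := nonempty_inter_closedPoints (Z := Tᶜ ∩ ((X ↘ Spec (CommRingCat.of k)).smoothLocus : Set X))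
    ⟨_, hg, hs⟩ (hT.isOpen_compl.inter (X ↘ Spec (CommRingCat.of k)).smoothLocus.2).isLocallyClosed
  exact ⟨p, hpT, hpc, hps⟩

omit [IsAlgClosed k] [IsIntegral X] [IsProper (X ↘ Spec (CommRingCat.of k))] in
theorem homOfClass_comp_eq_zero {L P : X.Modules} (φ : L ⟶ P) (t : Coh.HH X L 0) (h : mapLin k φ 0 t = 0) :
    CurveSpecial.homOfClass t ≫ φ = 0 := by
  refine CurveRR.hom_ext_one ?_
  show φ.app ⊤ ((CurveSpecial.homOfClass t).app ⊤ (H23.Frame.one ⊤)) = 0
  rw [CurveSpecial.homOfClass_one]
  have h1 := Sheaf.H.equiv₀_naturality isTerminalTop ((QCoh.toAbFunctor X).map φ) t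
  have h2 := congrArg (Sheaf.H.equiv₀ (Coh.toAb P) isTerminalTop) h
  exact h1.trans (h2.trans (map_zero _))

include k in
/-- One section less, still without first cohomology. -/
theorem exists_drop (hdim : topologicalKrullDim X = 1) {L : X.Modules} (hL : PicF.IsInvertible L)
    (h1 : Subsingleton (Coh.HH X L 1)) {n : ℕ} (h0 : Module.finrank k (Coh.HH X L 0) = n + 1) :
    ∃ M : X.Modules, PicF.IsInvertible M ∧ Module.finrank k (Coh.HH X M 0) = n ∧
      Subsingleton (Coh.HH X M 1) := by
  haveI := CurveCohLib.isNoetherian_of_proper (k := k) (X := X)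
  have hLc : Coh.IsCoh L := CurveDeg.isCoh_of_isInvertible hL
  haveI := CurveCohLib.finite_HH (k := k) hLc 0
  haveI : Nontrivial (Coh.HH X L 0) := Module.nontrivial_of_finrank_pos (R := k) (by omega)
  obtain ⟨t, ht⟩ := exists_ne (0 : Coh.HH X L 0)
  let s := CurveSpecial.homOfClass t
  obtain ⟨-, hrk⟩ := CurveCohLib.Nonspecial.section_of_sub k hLc hL (𝟙 L) s (CurveSpecial.homOfClass_ne_zero ht)
  have hCc : Coh.IsCoh (cokernel s) := QCoh.isCoh_cokernel QCoh.isCoh_structureModule'.1 hLc s
  have hgen : genericPoint X ∉ CohB1.support (cokernel s) := fun hx => by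
    letI := (isField_stalk_generic (X := X)).toField
    haveI := finite_stalk_of_coh hCc (genericPoint X)
    exact hx (Module.finrank_zero_iff.1 hrk)
  obtain ⟨p, hpT, hp, hps⟩ := exists_point k (QCoh.isClosed_support_of_isFT hCc.1 hCc.2) hgen
  have hn := CurveEmbed.isIntegrallyClosed_of_smooth k hdim hp hps
  have hI := CurveEmbed.isInvertible_point k hdim hp hn
  have hM := InvX.isInvertible_tensorMod hL hI
  have hLf := isFinLocFree_of_rank (InvEnd.isFinLocFreeOfRank_one hL)
  have hS := shortExact_of_iso_mid _ _ _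
    (CurveTensor.shortExact_tensor hLf _ _ _ (shortExact_pt p hp)) (KFlatLib.tensorUnitIso L)
  let π : L ⟶ (DCoh.tensorBi.obj L).obj (ClSub.quotMod (ptIdeal p hp)) :=
    (KFlatLib.tensorUnitIso L).inv ≫ (DCoh.tensorBi.obj L).map (ClSub.toSubscheme (ptIdeal p hp))
  haveI : Epi π := hS.epi_g
  have hπ : s ≫ π ≠ 0 := fun h => by
    let F := DerSch.stalkFunctor X p
    haveI hs0 : Subsingleton ((cokernel s).presheaf.stalk p) := not_not.1 hpT
    haveI : Epi (F.map s) := Preadditive.epi_of_isZero_cokernel _
      (IsZero.of_iso (@ModuleCat.isZero_of_subsingleton _ _ (F.obj (cokernel s)) hs0) (PreservesCokernel.iso F s).symm)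
    have h2 : F.map π = 0 := by rw [← cancel_epi (F.map s), ← F.map_comp, h, F.map_zero, comp_zero]
    haveI : Epi (F.map π) := inferInstance
    have hz : IsZero (F.obj ((DCoh.tensorBi.obj L).obj (ClSub.quotMod (ptIdeal p hp)))) := by
      rw [IsZero.iff_id_eq_zero, ← cancel_epi (F.map π), h2]; simp
    obtain ⟨e⟩ := H23.InvStalk.exists_stalk_equiv hL p
    let E := ((KFlatLib.stalkTensorIso p L (ClSub.quotMod (ptIdeal p hp))).toLinearEquiv.symm.trans
      ((TensorProduct.congr e (LinearEquiv.refl _ _)).trans (TensorProduct.lid _ _)))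
    haveI := ModuleCat.subsingleton_of_isZero hz
    exact not_subsingleton_stalk p hp E.symm.toEquiv.subsingleton
  have hlt : Module.finrank k (Coh.HH X ((DCoh.tensorBi.obj L).obj (ptMod p hp)) 0) < n + 1 := by
    have ht' : mapLin k π 0 t ≠ 0 := fun h => hπ (homOfClass_comp_eq_zero k π t h)
    have e1 := CurveCohLib.ker_mapLin_g k hS 0
    have e2 := CurveCohLib.mapLin_f_zero_injective k hS
    have e3 : LinearMap.ker (mapLin k π 0) < ⊤ :=
      lt_top_iff_ne_top.2 fun h => ht' (LinearMap.mem_ker.1 (h ▸ Submodule.mem_top))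
    have e4 := Submodule.finrank_lt e3.ne
    have e5 : Module.finrank k (LinearMap.ker (mapLin k π 0)) = _ :=
      (congrArg (fun S : Submodule k _ => Module.finrank k S) e1).trans (LinearMap.finrank_range_of_inj e2)
    rw [e5, h0] at e4
    exact e4
  have hd := CurveRR.deg_tensor k hdim hL hI
  rw [deg_point_eq k hp] at hd
  have hMc : Coh.IsCoh ((DCoh.tensorBi.obj L).obj (ptMod p hp)) := CurveDeg.isCoh_of_isInvertible hM
  have hχL := CurveRR.euler_eq_h0_sub_h1 k hdim.le hLc.1
  have hχM := CurveRR.euler_eq_h0_sub_h1 k hdim.le hMc.1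
  rw [h0, Module.finrank_zero_of_subsingleton] at hχL
  haveI : Module.Finite k (Coh.HH X (CohB1.tensorMod L (ptMod p hp)) 1) := CurveCohLib.finite_HH (k := k) hMc 1
  unfold Curv2.deg at hd
  push_cast at hd hχL
  refine ⟨_, hM, ?_, (Module.finrank_zero_iff (R := k)).1 ?_⟩
  · change Module.finrank k (Coh.HH X ((DCoh.tensorBi.obj L).obj (ptMod p hp)) 0) = n
    omega
  · change Module.finrank k (Coh.HH X ((DCoh.tensorBi.obj L).obj (ptMod p hp)) 1) = 0
    omega

include k in
/-- Invertible modules of every natural degree. -/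
theorem exists_deg (hdim : topologicalKrullDim X = 1) (d : ℕ) :
    ∃ L : X.Modules, PicF.IsInvertible L ∧ Curv2.deg k X L 1 = d := by
  induction d with
  | zero => exact ⟨_, CurveDeg.isInvertible_structureModule, CurveDeg.deg_structureModule k⟩
  | succ d ih =>
    obtain ⟨L, hL, hd⟩ := ih
    obtain ⟨p, -, hp, hps⟩ := exists_point k (T := (∅ : Set X)) isClosed_empty id
    obtain ⟨D, hD, ⟨e⟩⟩ := H23.PicInv.exists_inverse
      (CurveEmbed.isInvertible_point k hdim hp (CurveEmbed.isIntegrallyClosed_of_smooth k hdim hp hps))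
    refine ⟨_, InvX.isInvertible_tensorMod hL hD, ?_⟩
    have h1 := CurveRR.deg_tensor k hdim
      (CurveEmbed.isInvertible_point k hdim hp (CurveEmbed.isIntegrallyClosed_of_smooth k hdim hp hps)) hD
    have h2 : Curv2.deg k X ((DCoh.tensorBi.obj (ptMod p hp)).obj D) 1 = Curv2.deg k X (Coh.structureModule X) 1 :=
      CurveRR.deg_congr k e 1
    rw [h2, CurveDeg.deg_structureModule, deg_point_eq k hp] at h1
    have h3 := CurveRR.deg_tensor k hdim hL hD
    refine h3.trans ?_
    push_cast
    linarith

end Groth.Agent.CurveDrop
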